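import Groth.Agent.FibSiteLib.Total
import Mathlib.CategoryTheory.GuitartExact.KanExtension
import Mathlib.CategoryTheory.GuitartExact.Opposite
import Mathlib.CategoryTheory.Sites.Pullback
import Mathlib.CategoryTheory.Sites.CoverLifting

/-!
# Cartesian functors between fibred sites: base change for the inverse images
-/

set_option autoImplicit false
set_option backward.isDefEq.respectTransparency false
set_option backward.isDefEq.respectTransparency.types false

universe w v₃ u₃ v₂ u₂ v₁ u₁ u

open CategoryTheory CategoryTheory.Limits Opposite Pseudofunctor.CoGrothendieck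
open scoped CategoryTheory.Pseudofunctor.StrongTrans

namespace Groth.Agent.FibSiteLib

section General

variable {𝒮 : Type u₁} [Category.{v₁} 𝒮] {F G : Pseudofunctor (LocallyDiscrete 𝒮ᵒᵖ) Cat.{v₂, u₂}} (α : G ⟶ F)

/-- The component of a cartesian functor. -/
abbrev comp (S : 𝒮) : G.obj ⟨op S⟩ ⥤ F.obj ⟨op S⟩ := (α.app ⟨op S⟩).toFunctor

/-- A component commutes with the fibre inclusions. -/
def compιIso (S : 𝒮) : comp α S ⋙ ι F S ≅ ι G S ⋙ Pseudofunctor.CoGrothendieck.map α :=
  NatIso.ofComponents (fun _ => Iso.refl _) (fun {V W} g => by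
    refine (Category.comp_id _).trans (Eq.trans ?_ (Category.id_comp _).symm)
    have h := Hom.congr ((Pseudofunctor.CoGrothendieck.map α).map_id ((ι G S).obj W))
    refine Hom.ext _ _ rfl ?_
    show (comp α S).map g ≫ _ = ((comp α S).map (g ≫ _) ≫ _) ≫ eqToHom _
    rw [Functor.map_comp, Category.assoc, Category.assoc]
    refine congrArg ((comp α S).map g ≫ ·) ?_
    simp only [eqToHom_refl, Category.comp_id]
    exact (h.trans (by simp; rfl)).symm)

/-- The square of a fibre. -/
def square (S : 𝒮) : TwoSquare (comp α S) (ι G S) (ι F S) (Pseudofunctor.CoGrothendieck.map α) :=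
  TwoSquare.mk _ _ _ _ (compιIso α S).hom

instance guitartExact_square (S : 𝒮) : (square α S).GuitartExact := by
  rw [TwoSquare.guitartExact_iff_isConnected_rightwards]
  rintro U ⟨R, W⟩ g
  obtain ⟨f, a⟩ := g
  let e := Cat.Hom.toNatIso (α.naturality f.op.toLoc)
  have he : ∀ {V : G.obj ⟨op S⟩} (c : V ⟶ (FibSite.invImage G f).obj W) (b : U ⟶ (comp α S).obj V),
      (ι F S).map b ≫ (Pseudofunctor.CoGrothendieck.map α).map (mkHom (X := ⟨S, V⟩) (Y := ⟨R, W⟩) f c) =
        mkHom (X := ⟨S, U⟩) (Y := ⟨R, (comp α R).obj W⟩) f (b ≫ (comp α S).map c ≫ e.hom.app W) :=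
    fun c b => ι_mkHom f b ((comp α S).map c ≫ e.hom.app W)
  let j₀ : (square α S).StructuredArrowRightwards
      (⟨f, a⟩ : (ι F S).obj U ⟶ (Pseudofunctor.CoGrothendieck.map α).obj ⟨R, W⟩) :=
    TwoSquare.StructuredArrowRightwards.mk (square α S) _ ((FibSite.invImage G f).obj W) (a ≫ e.inv.app W)
      (cartesianLift W f) (by
        refine ((congrArg ((ι F S).map _ ≫ ·) (Category.id_comp _)).trans (he (𝟙 _) _)).trans ?_
        refine congrArg (Hom.mk f) ?_
        refine (congrArg (fun q => (a ≫ e.inv.app W) ≫ q ≫ e.hom.app W) ((comp α S).map_id _)).trans ?_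
        refine (Category.assoc _ _ _).trans ?_
        refine (congrArg (a ≫ ·) ((congrArg (e.inv.app W ≫ ·) (Category.id_comp _)).trans
          (e.inv_hom_id_app W))).trans (Category.comp_id a))
  have key : ∀ j, Nonempty (j ⟶ j₀) := fun j => by
    obtain ⟨V, b, ⟨f', c⟩, hc, rfl⟩ := TwoSquare.StructuredArrowRightwards.mk_surjective j
    have hc' : (ι F S).map b ≫ (Pseudofunctor.CoGrothendieck.map α).map ⟨f', c⟩ =
        mkHom (X := ⟨S, U⟩) (Y := ⟨R, (comp α R).obj W⟩) f a :=
      (congrArg ((ι F S).map b ≫ ·) (Category.id_comp _).symm).trans hc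
    obtain rfl : f = f' := (((Hom.ext_iff _ _).1 hc').1.symm.trans (Category.id_comp f'))
    refine ⟨StructuredArrow.homMk (CostructuredArrow.homMk c (mkHom_eq_lift f c).symm) ?_⟩
    apply CostructuredArrow.hom_ext
    show b ≫ (comp α S).map c = a ≫ e.inv.app W
    rw [← eq_of_mkHom_eq ((he c b).symm.trans hc'), Category.assoc, Category.assoc, e.hom_inv_id_app]
    exact (congrArg (b ≫ ·) (Category.comp_id _)).symm
  have : Nonempty ((square α S).StructuredArrowRightwards
      (⟨f, a⟩ : (ι F S).obj U ⟶ (Pseudofunctor.CoGrothendieck.map α).obj ⟨R, W⟩)) := ⟨j₀⟩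
  exact zigzag_isConnected fun j₁ j₂ => (Zigzag.of_hom (key j₁).some).trans (Zigzag.of_inv (key j₂).some)

variable (J : FibSite.Topologies F) (K : FibSite.Topologies G)

theorem isContinuous_map (hF : FibSite.IsPreFibSite F J) (hG : FibSite.IsPreFibSite G K)
    (h : ∀ S, (comp α S).IsContinuous (K S) (J S)) :
    (Pseudofunctor.CoGrothendieck.map α).IsContinuous (FibSite.totalTopology G K) (FibSite.totalTopology F J) := by
  rw [isContinuous_total_iff hG]
  intro S
  have := h S
  have := isContinuous_ι hF S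
  exact Functor.isContinuous_comp' (compιIso α S) (K S) (J S) (FibSite.totalTopology F J)

end General

section Small

variable {𝒮 : Type u} [SmallCategory 𝒮] {F G : Pseudofunctor (LocallyDiscrete 𝒮ᵒᵖ) Cat.{u, u}}
  {J : FibSite.Topologies F} {K : FibSite.Topologies G}

/-- Restricting the constructed inverse image to a fibre. -/
noncomputable def pullbackRestrIso (α : G ⟶ F) (hF : FibSite.IsPreFibSite F J) (S : 𝒮) :
    (Pseudofunctor.CoGrothendieck.map α).op.lan ⋙ presheafToSheaf (FibSite.totalTopology F J) (Type u) ⋙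
        (haveI := isContinuous_ι hF S; FibSite.restr F J (Type u) S) ≅
      (Functor.whiskeringLeft _ _ (Type u)).obj (ι G S).op ⋙ (comp α S).op.lan ⋙ presheafToSheaf (J S) (Type u) :=
  haveI := isContinuous_ι hF S
  haveI := isCocontinuous_ι hF S
  Functor.isoWhiskerLeft _
      ((ι F S).pushforwardContinuousSheafificationCompatibility (Type u) (J S) (FibSite.totalTopology F J)).symm ≪≫
    (Functor.associator _ _ _).symm ≪≫
    Functor.isoWhiskerRight (asIso ((square α S).op.lanBaseChange (D := Type u))).symm _ ≪≫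
    Functor.associator _ _ _

/-- Limits of sheaves on the total site are computed fibrewise. -/
theorem preservesLimit_of_restr {𝒟 : Type u₃} [Category.{v₃} 𝒟] (hF : FibSite.IsPreFibSite F J)
    {I : Type w} [Category.{w} I] [FinCategory I] (T : 𝒟 ⥤ FibSite.TotSh F J (Type u)) {D : I ⥤ 𝒟}
    (h : ∀ S, haveI := isContinuous_ι hF S; PreservesLimit D (T ⋙ FibSite.restr F J (Type u) S)) :
    PreservesLimit D T where
  preserves {c} hc := ⟨isLimitOfReflects (sheafToPresheaf _ _) (evaluationJointlyReflectsLimits _ fun X =>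
    haveI := isContinuous_ι hF X.unop.base
    haveI := h X.unop.base
    isLimitOfPreserves ((T ⋙ FibSite.restr F J (Type u) X.unop.base) ⋙ sheafToPresheaf _ _ ⋙
      (evaluation _ _).obj (op X.unop.fiber)) hc)⟩

end Small

end Groth.Agent.FibSiteLib
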