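import Groth.Agent.FibSiteLib.Retraction
import Mathlib.CategoryTheory.Sites.LocallyBijective

/-!
# From the total sites back to the fibres
-/

set_option autoImplicit false
set_option backward.isDefEq.respectTransparency false
set_option backward.isDefEq.respectTransparency.types false

universe u v₁ u₁ v₂ u₂

open CategoryTheory CategoryTheory.Limits Opposite Pseudofunctor.CoGrothendieck
open scoped CategoryTheory.Pseudofunctor.StrongTrans

namespace Groth.Agent.FibSiteLib

/-- A retract of a pullback square is a pullback square. -/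
theorem isPullback_of_retract {C : Type u₁} [Category.{v₁} C] {D : Type u₂} [Category.{v₂} D] (A B : C ⥤ D)
    (s : A ⟶ B) (r : B ⟶ A) (hsr : ∀ X, s.app X ≫ r.app X = 𝟙 _) {P X Y Z : C} {f : P ⟶ X} {g : P ⟶ Y}
    {h : X ⟶ Z} {k : Y ⟶ Z} (w : f ≫ h = g ≫ k)
    (hB : IsPullback (B.map f) (B.map g) (B.map h) (B.map k)) :
    IsPullback (A.map f) (A.map g) (A.map h) (A.map k) := by
  have hw : A.map f ≫ A.map h = A.map g ≫ A.map k := by rw [← A.map_comp, w, A.map_comp]
  refine ⟨⟨hw⟩, ⟨PullbackCone.IsLimit.mk hw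
    (fun c => hB.lift (c.fst ≫ s.app X) (c.snd ≫ s.app Y) (by
      rw [Category.assoc, ← s.naturality, Category.assoc, ← s.naturality, c.condition_assoc]) ≫ r.app P)
    (fun c => by rw [Category.assoc, ← r.naturality, hB.lift_fst_assoc, Category.assoc, hsr, Category.comp_id])
    (fun c => by rw [Category.assoc, ← r.naturality, hB.lift_snd_assoc, Category.assoc, hsr, Category.comp_id])
    fun c m hm₁ hm₂ => ?_⟩⟩
  rw [← Category.comp_id m, ← hsr P, ← Category.assoc]
  congr 1
  apply hB.hom_ext
  · rw [Category.assoc, ← s.naturality, hB.lift_fst, reassoc_of% hm₁]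
  · rw [Category.assoc, ← s.naturality, hB.lift_snd, reassoc_of% hm₂]

section Pointed

variable {C : Type u} [SmallCategory C] {K : Type u₁} [Category.{v₁} K]

/-- Adding a point to presheaves. -/
abbrev ptd : (Cᵒᵖ ⥤ Type u) ⥤ (Cᵒᵖ ⥤ Type u) := (Functor.whiskeringRight _ _ _).obj optF

/-- The one point presheaf. -/
abbrev one₀ : Cᵒᵖ ⥤ Type u := (Functor.const _).obj PUnit.{u + 1}

/-- The inclusion into the pointed presheaf. -/
def inSome (P : Cᵒᵖ ⥤ Type u) : P ⟶ ptd.obj P where
  app _ := TypeCat.ofHom some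
  naturality _ _ _ := rfl

/-- The added point. -/
def inNone (P : Cᵒᵖ ⥤ Type u) : one₀ ⟶ ptd.obj P where
  app _ := TypeCat.ofHom fun _ => none
  naturality _ _ _ := rfl

/-- The map to the one point presheaf. -/
def toOne (P : Cᵒᵖ ⥤ Type u) : P ⟶ one₀ where
  app _ := TypeCat.ofHom fun _ => PUnit.unit
  naturality _ _ _ := rfl

/-- Adding a point is a coproduct. -/
def optCofanIsColimit (P : Cᵒᵖ ⥤ Type u) : IsColimit (BinaryCofan.mk (inSome P) (inNone P)) :=
  BinaryCofan.IsColimit.mk _
    (fun {T} a b =>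
      { app := fun X => TypeCat.ofHom fun o => Option.elim o (b.app X PUnit.unit) (a.app X)
        naturality := fun X Y f => by
          ext o
          cases o with
          | none => exact NatTrans.naturality_apply b f PUnit.unit
          | some x => exact NatTrans.naturality_apply a f x })
    (fun a b => by ext X x; rfl) (fun a b => by ext X x; rfl)
    fun a b m h₁ h₂ => by
      ext X o
      cases o with
      | none => exact congrArg (fun q => q.app X PUnit.unit) h₂
      | some x => exact congrArg (fun q => q.app X x) h₁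

lemma isPullback_ptd {P X Y Z : Cᵒᵖ ⥤ Type u} {f : P ⟶ X} {g : P ⟶ Y} {h : X ⟶ Z} {k : Y ⟶ Z}
    (H : IsPullback f g h k) : IsPullback (ptd.map f) (ptd.map g) (ptd.map h) (ptd.map k) := by
  refine IsPullback.of_forall_isPullback_app fun U => ?_
  have H' := (Types.isPullback_iff _ _ _ _).1 (H.app U)
  rw [Types.isPullback_iff]
  refine ⟨?_, fun a b hab => ?_, fun a b hab => ?_⟩
  · ext o
    cases o with
    | none => rfl
    | some x => exact congrArg (fun q => some (q x)) H'.1
  · rcases a with _ | a <;> rcases b with _ | b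
    · rfl
    · exact (Option.some_ne_none _ (hab.1 : none = some _).symm).elim
    · exact (Option.some_ne_none _ (hab.1 : some _ = none)).elim
    · exact congrArg some (H'.2.1 a b ⟨Option.some.inj hab.1, Option.some.inj hab.2⟩)
  · rcases a with _ | a <;> rcases b with _ | b
    · exact ⟨none, rfl, rfl⟩
    · exact (Option.some_ne_none _ (hab : none = some _).symm).elim
    · exact (Option.some_ne_none _ (hab : some _ = none)).elim
    · obtain ⟨x, hx₁, hx₂⟩ := H'.2.2 a b (Option.some.inj hab)
      exact ⟨some x, congrArg some hx₁, congrArg some hx₂⟩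

variable (L : (Cᵒᵖ ⥤ Type u) ⥤ K)

/-- A colimit preserving functor to an extensive category, cartesian on pointed presheaves, is cartesian. -/
theorem isPullback_map_of_pointed [FinitaryExtensive K] [PreservesColimitsOfShape (Discrete WalkingPair) L]
    (hL : ∀ ⦃P X Y Z : Cᵒᵖ ⥤ Type u⦄ ⦃f : P ⟶ X⦄ ⦃g : P ⟶ Y⦄ ⦃h : X ⟶ Z⦄ ⦃k : Y ⟶ Z⦄, IsPullback f g h k →
      IsPullback (L.map (ptd.map f)) (L.map (ptd.map g)) (L.map (ptd.map h)) (L.map (ptd.map k)))
    {P X Y Z : Cᵒᵖ ⥤ Type u} {f : P ⟶ X} {g : P ⟶ Y} {h : X ⟶ Z} {k : Y ⟶ Z} (H : IsPullback f g h k) :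
    IsPullback (L.map f) (L.map g) (L.map h) (L.map k) := by
  have hvk : ∀ Q, IsVanKampenColimit (BinaryCofan.mk (L.map (inSome Q)) (L.map (inNone Q))) := fun Q =>
    FinitaryExtensive.vanKampen _ (mapIsColimitOfPreservesOfIsColimit L _ _ (optCofanIsColimit Q))
  have sq : ∀ {A B : Cᵒᵖ ⥤ Type u} (t : A ⟶ B),
      IsPullback (L.map (inSome A)) (L.map t) (L.map (ptd.map t)) (L.map (inSome B)) := fun {A B} t =>
    (((BinaryCofan.isVanKampen_iff _).1 (hvk B) (BinaryCofan.mk (L.map (inSome A)) (L.map (inNone A))) (L.map t)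
      (𝟙 _) (L.map (ptd.map t))
      ((L.map_comp t (inSome B)).symm.trans (Eq.trans (congrArg L.map (by rfl)) (L.map_comp (inSome A) (ptd.map t))))
      ((Category.id_comp _).trans
        (Eq.trans (congrArg L.map (by rfl : inNone B = inNone A ≫ ptd.map t)) (L.map_comp (inNone A) (ptd.map t))))).1
      ⟨mapIsColimitOfPreservesOfIsColimit L _ _ (optCofanIsColimit A)⟩).1
  have h1 := (sq g).paste_horiz (hL H)
  have e1 : L.map f ≫ L.map (inSome X) = L.map (inSome P) ≫ L.map (ptd.map f) :=
    (L.map_comp f (inSome X)).symm.trans (Eq.trans (congrArg L.map (by rfl)) (L.map_comp (inSome P) (ptd.map f)))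
  have e2 : L.map k ≫ L.map (inSome Z) = L.map (inSome Y) ≫ L.map (ptd.map k) :=
    (L.map_comp k (inSome Z)).symm.trans (Eq.trans (congrArg L.map (by rfl)) (L.map_comp (inSome Y) (ptd.map k)))
  rw [← e1, ← e2] at h1
  exact h1.of_right (by rw [← L.map_comp, ← L.map_comp, H.w]) (sq h)

end Pointed

variable {𝒮 : Type u} [SmallCategory 𝒮] {F G : Pseudofunctor (LocallyDiscrete 𝒮ᵒᵖ) Cat.{u, u}}
  {J : FibSite.Topologies F} {K : FibSite.Topologies G}
  (hF : FibSite.IsPreFibSite F J) (hG : FibSite.IsPreFibSite G K) (α : G ⟶ F)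
  [(Pseudofunctor.CoGrothendieck.map α).IsContinuous (FibSite.totalTopology G K) (FibSite.totalTopology F J)]
  (S : 𝒮)

/-- Extending along a component and then along the fibre inclusion. -/
noncomputable def lanCompIso :
    (comp α S).op.lan ⋙ (ι F S).op.lan (H := Type u) ≅
      (ι G S).op.lan ⋙ (Pseudofunctor.CoGrothendieck.map α).op.lan :=
  Adjunction.leftAdjointUniq (((comp α S).op.lanAdjunction (Type u)).comp ((ι F S).op.lanAdjunction (Type u)))
    ((((ι G S).op.lanAdjunction (Type u)).comp
      ((Pseudofunctor.CoGrothendieck.map α).op.lanAdjunction (Type u))).ofNatIsoRight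
      (NatIso.ofComponents (fun P => Functor.isoWhiskerRight (NatIso.op (compιIso α S)) P)
        fun {P Q} u => by ext V x; exact (NatTrans.naturality_apply u _ x).symm))

include hF hG in
/-- The components are continuous. -/
theorem isContinuous_comp_of_map : (comp α S).IsContinuous (K S) (J S) where
  op_comp_isSheaf_of_types P := by
    refine Presieve.IsSheaf.comp_of_W_map_of_adjunction (J := K S) (K := J S) ((comp α S).op.lanAdjunction (Type u))
      (fun X T hT => ?_) _ ((isSheaf_iff_isSheaf_of_type _ _).1 P.property)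
    rw [W_iff hF]
    refine ((FibSite.totalTopology F J).W.arrow_mk_iso_iff
      (Arrow.isoOfNatIso (lanCompIso α S) (Arrow.mk (Sieve.shrinkFunctor.{u} T).ι))).2 ?_
    have := isContinuous_ι hG S
    exact Functor.W_map_of_adjunction_of_isContinuous (FibSite.totalTopology G K) _
      (Pseudofunctor.CoGrothendieck.map α) _ (Functor.lanAdjunction _ _) _
      (Functor.W_map_of_adjunction_of_isContinuous (K S) _ (ι G S) _ (Functor.lanAdjunction _ _) _
        (Sieve.W_shrinkFunctor_ι_of_mem (K S) T hT))

/-- The composite of extension and sheafification along a component. -/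
noncomputable abbrev compShf : ((G.obj ⟨op S⟩)ᵒᵖ ⥤ Type u) ⥤ Sheaf (J S) (Type u) :=
  (comp α S).op.lan ⋙ presheafToSheaf (J S) (Type u)

include hF hG in
/-- The components have left exact inverse images. -/
theorem preservesFiniteLimits_comp_of_map
    [PreservesFiniteLimits ((Pseudofunctor.CoGrothendieck.map α).sheafPullback (Type u)
      (FibSite.totalTopology G K) (FibSite.totalTopology F J))]
    [(comp α S).IsContinuous (K S) (J S)] :
    PreservesFiniteLimits ((comp α S).sheafPullback (Type u) (K S) (J S)) := by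
  have := isContinuous_ι hF S
  have := isCocontinuous_ι hF S
  let Φ := Pseudofunctor.CoGrothendieck.map α
  let Φs := Functor.sheafPullbackConstruction.sheafPullback Φ (Type u) (FibSite.totalTopology G K) (FibSite.totalTopology F J)
  have : PreservesFiniteLimits Φs :=
    preservesFiniteLimits_of_natIso (Functor.sheafPullbackConstruction.sheafPullbackIso Φ (Type u)
      (FibSite.totalTopology G K) (FibSite.totalTopology F J))
  let e : presheafToSheaf (FibSite.totalTopology G K) (Type u) ⋙ Φs ≅
      Φ.op.lan ⋙ presheafToSheaf (FibSite.totalTopology F J) (Type u) :=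
    Adjunction.leftAdjointUniq
      ((sheafificationAdjunction _ (Type u)).comp
        (Functor.sheafPullbackConstruction.sheafAdjunctionContinuous Φ (Type u) _ _))
      ((Φ.op.lanAdjunction (Type u)).comp (sheafificationAdjunction _ (Type u)))
  have : PreservesFiniteLimits (presheafToSheaf (FibSite.totalTopology G K) (Type u) ⋙ Φs) :=
    comp_preservesFiniteLimits _ _
  have : PreservesFiniteLimits (Φ.op.lan ⋙ presheafToSheaf (FibSite.totalTopology F J) (Type u)) :=
    preservesFiniteLimits_of_natIso e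
  have : PreservesFiniteLimits ((Φ.op.lan ⋙ presheafToSheaf (FibSite.totalTopology F J) (Type u)) ⋙
      FibSite.restr F J (Type u) S) := comp_preservesFiniteLimits _ _
  have hWL : PreservesFiniteLimits (res G S ⋙ compShf (J := J) α S) :=
    preservesFiniteLimits_of_natIso ((Functor.associator _ _ _) ≪≫ pullbackRestrIso α hF S)
  let L := compShf (J := J) α S
  have : L.IsLeftAdjoint :=
    (((comp α S).op.lanAdjunction (Type u)).comp (sheafificationAdjunction (J S) (Type u))).isLeftAdjoint
  have hpt : ∀ ⦃P X Y Z : (G.obj ⟨op S⟩)ᵒᵖ ⥤ Type u⦄ ⦃f : P ⟶ X⦄ ⦃g : P ⟶ Y⦄ ⦃h : X ⟶ Z⦄ ⦃k : Y ⟶ Z⦄,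
      IsPullback f g h k →
      IsPullback (L.map (ptd.map f)) (L.map (ptd.map g)) (L.map (ptd.map h)) (L.map (ptd.map k)) := by
    intro P X Y Z f g h k H
    have := ((ι G S).op.ranAdjunction (Type u)).rightAdjoint_preservesLimits
    exact isPullback_of_retract (addPt G S ⋙ L) ((addPt G S ⋙ (ι G S).op.ran) ⋙ (res G S ⋙ L))
      (Functor.whiskerRight (sect G S) L)
      (Functor.whiskerLeft (addPt G S) (Functor.whiskerRight ((ι G S).op.ranAdjunction (Type u)).counit L))
      (fun Q => (L.map_comp _ _).symm.trans ((congrArg L.map (sect_counit G S Q)).trans (L.map_id _)))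
      H.w (((isPullback_ptd H).map (ι G S).op.ran).map (res G S ⋙ L))
  have hpb : ∀ ⦃P X Y Z : (G.obj ⟨op S⟩)ᵒᵖ ⥤ Type u⦄ ⦃f : P ⟶ X⦄ ⦃g : P ⟶ Y⦄ ⦃h : X ⟶ Z⦄ ⦃k : Y ⟶ Z⦄,
      IsPullback f g h k → IsPullback (L.map f) (L.map g) (L.map h) (L.map k) :=
    fun P X Y Z f g h k H => isPullback_map_of_pointed L hpt H
  have : PreservesLimitsOfShape WalkingCospan L := ⟨fun {D} => by
    have : ∀ {X Y Z : (G.obj ⟨op S⟩)ᵒᵖ ⥤ Type u} (h : X ⟶ Z) (k : Y ⟶ Z), PreservesLimit (cospan h k) L :=
      fun h k => preservesLimit_of_preserves_limit_cone (pullbackIsPullback h k)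
        ((isLimitMapConePullbackConeEquiv L pullback.condition).symm (hpb (IsPullback.of_hasPullback h k)).isLimit)
    exact preservesLimit_of_iso_diagram L (diagramIsoCospan D).symm⟩
  have : PreservesLimit (Functor.empty.{0} ((G.obj ⟨op S⟩)ᵒᵖ ⥤ Type u)) L := by
    let T₁ := (res G S).obj (⊤_ _)
    have hT₁ : IsTerminal T₁ := IsTerminal.isTerminalObj (res G S) _ terminalIsTerminal
    have hT₂ : IsTerminal (L.obj T₁) := IsTerminal.isTerminalObj (res G S ⋙ L) _ terminalIsTerminal
    exact preservesLimit_of_preserves_limit_cone hT₁ ((isLimitMapConeEmptyConeEquiv L T₁).symm hT₂)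
  have : PreservesLimitsOfShape (Discrete.{0} PEmpty) L :=
    preservesLimitsOfShape_pempty_of_preservesTerminal L
  have : PreservesFiniteLimits L := preservesFiniteLimits_of_preservesTerminal_and_pullbacks L
  have : PreservesFiniteLimits (Functor.sheafPullbackConstruction.sheafPullback (comp α S) (Type u) (K S) (J S)) :=
    comp_preservesFiniteLimits (sheafToPresheaf (K S) (Type u)) L
  exact preservesFiniteLimits_of_natIso
    (Functor.sheafPullbackConstruction.sheafPullbackIso (comp α S) (Type u) (K S) (J S)).symm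

end Groth.Agent.FibSiteLib
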