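import Groth.Agent.FibSiteLib.BeckChevalley
import Mathlib.CategoryTheory.Limits.Types.Coproducts
import Mathlib.CategoryTheory.Limits.Types.Pullbacks
import Mathlib.CategoryTheory.Extensive
import Mathlib.CategoryTheory.MorphismProperty.Limits
import Mathlib.CategoryTheory.Limits.Constructions.LimitsOfProductsAndEqualizers

/-!
# A presheaf on a fibre is split off the restriction of its extension
-/

set_option autoImplicit false
set_option backward.isDefEq.respectTransparency false
set_option backward.isDefEq.respectTransparency.types false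

universe u

open CategoryTheory CategoryTheory.Limits Opposite Pseudofunctor.CoGrothendieck
open scoped CategoryTheory.Pseudofunctor.StrongTrans

namespace Groth.Agent.FibSiteLib

variable {𝒮 : Type u} [SmallCategory 𝒮] {F : Pseudofunctor (LocallyDiscrete 𝒮ᵒᵖ) Cat.{u, u}} {S : 𝒮}

/-- The vertical part of a morphism between objects of one fibre. -/
noncomputable def vert {V W : F.obj ⟨op S⟩} (k : (ι F S).obj V ⟶ (ι F S).obj W) (hk : k.base = 𝟙 S) : V ⟶ W :=
  (exists_vertical k hk).choose

lemma ι_vert {V W : F.obj ⟨op S⟩} (k : (ι F S).obj V ⟶ (ι F S).obj W) (hk : k.base = 𝟙 S) :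
    (ι F S).map (vert k hk) = k :=
  (exists_vertical k hk).choose_spec

/-- Adding a point to sets. -/
def optF : Type u ⥤ Type u where
  obj X := Option X
  map f := TypeCat.ofHom (Option.map f)
  map_id X := by ext x; cases x <;> rfl
  map_comp f g := by ext x; cases x <;> rfl

/-- Forgetting one of two added points. -/
def joinNat : optF.{u} ⋙ optF ⟶ optF where
  app X := TypeCat.ofHom Option.join
  naturality X Y f := by ext x; rcases x with _ | (_ | _) <;> rfl

variable (F S)

/-- The category of presheaves on the fibre. -/
abbrev Psh : Type (u + 1) := (F.obj ⟨op S⟩)ᵒᵖ ⥤ Type u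

/-- Adding a point to presheaves. -/
abbrev addPt : Psh F S ⥤ Psh F S := (Functor.whiskeringRight _ _ _).obj optF

/-- Restriction of presheaves to the fibre. -/
abbrev res : ((∫ᶜ F)ᵒᵖ ⥤ Type u) ⥤ Psh F S := (Functor.whiskeringLeft _ _ (Type u)).obj (ι F S).op

variable {F S}

/-- The extension evaluated on the fibre. -/
abbrev extObj (P : Psh F S) (V : F.obj ⟨op S⟩) : Type u := ((ι F S).op.lan.obj P).obj (op ((ι F S).obj V))

/-- An element of the extension. -/
noncomputable def elt (P : Psh F S) {V W : F.obj ⟨op S⟩} (k : (ι F S).obj V ⟶ (ι F S).obj W) (x : P.obj (op W)) :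
    extObj P V :=
  ((ι F S).op.lan.obj P).map k.op (((ι F S).op.lanUnit.app P).app (op W) x)

/-- The pointwise colimit computing the extension. -/
noncomputable def extColim (P : Psh F S) (V : F.obj ⟨op S⟩) :=
  Functor.isPointwiseLeftKanExtensionLeftKanExtensionUnit (ι F S).op P ((ι F S).op.obj (op V))

lemma exists_elt (P : Psh F S) {V : F.obj ⟨op S⟩} (e : extObj P V) :
    ∃ (W : F.obj ⟨op S⟩) (k : (ι F S).obj V ⟶ (ι F S).obj W) (x : P.obj (op W)), elt P k x = e := by
  obtain ⟨j, x, hx⟩ := Types.jointly_surjective _ (extColim P V) e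
  exact ⟨j.left.unop, j.hom.unop, x, hx⟩

open Classical in
/-- The retraction on representatives. -/
noncomputable def retrCocone (P : Psh F S) (V : F.obj ⟨op S⟩) :
    Cocone (CostructuredArrow.proj (ι F S).op ((ι F S).op.obj (op V)) ⋙ P) where
  pt := Option (P.obj (op V))
  ι :=
    { app := fun j => TypeCat.ofHom fun x =>
        if h : j.hom.unop.base = 𝟙 S then some (P.map (vert j.hom.unop h).op x) else none
      naturality := fun j j' φ => by
        ext x
        have hw : j'.hom.unop ≫ (ι F S).map φ.left.unop = j.hom.unop := congrArg Quiver.Hom.unop (CostructuredArrow.w φ)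
        have hb : j'.hom.unop.base = j.hom.unop.base :=
          (Category.comp_id _).symm.trans (congrArg Hom.base hw)
        show (if h : j'.hom.unop.base = 𝟙 S then some (P.map (vert j'.hom.unop h).op (P.map φ.left x)) else none) =
          (if h : j.hom.unop.base = 𝟙 S then some (P.map (vert j.hom.unop h).op x) else none)
        by_cases h : j.hom.unop.base = 𝟙 S
        · rw [dif_pos (hb.trans h), dif_pos h]
          refine congrArg some ?_
          rw [show vert j.hom.unop h = vert j'.hom.unop (hb.trans h) ≫ φ.left.unop from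
            ι_injective (by rw [ι_vert, Functor.map_comp, ι_vert, hw]), op_comp, Quiver.Hom.op_unop]
          exact (Functor.map_comp_apply P φ.left _ x).symm
        · rw [dif_neg (fun h' => h (hb.symm.trans h')), dif_neg h] }

/-- The retraction at one object. -/
noncomputable def retrApp (P : Psh F S) (V : F.obj ⟨op S⟩) : extObj P V → Option (P.obj (op V)) :=
  (extColim P V).desc (retrCocone P V)

open Classical in
lemma retrApp_elt (P : Psh F S) {V W : F.obj ⟨op S⟩} (k : (ι F S).obj V ⟶ (ι F S).obj W) (x : P.obj (op W)) :
    retrApp P V (elt P k x) = if h : k.base = 𝟙 S then some (P.map (vert k h).op x) else none :=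
  congrArg (fun q => q x) ((extColim P V).fac (retrCocone P V) (CostructuredArrow.mk (Y := op W) k.op))

lemma map_ι_elt (P : Psh F S) {V V' W : F.obj ⟨op S⟩} (g : V' ⟶ V) (k : (ι F S).obj V ⟶ (ι F S).obj W)
    (x : P.obj (op W)) :
    ((ι F S).op.lan.obj P).map ((ι F S).map g).op (elt P k x) = elt P ((ι F S).map g ≫ k) x :=
  (Functor.map_comp_apply ((ι F S).op.lan.obj P) k.op ((ι F S).map g).op _).symm

lemma lan_map_elt {P Q : Psh F S} (u : P ⟶ Q) {V W : F.obj ⟨op S⟩} (k : (ι F S).obj V ⟶ (ι F S).obj W)
    (x : P.obj (op W)) :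
    ((ι F S).op.lan.map u).app (op ((ι F S).obj V)) (elt P k x) = elt Q k (u.app (op W) x) := by
  refine (NatTrans.naturality_apply ((ι F S).op.lan.map u) k.op _).trans ?_
  exact congrArg _ (congrArg (fun q => q.app (op W) x) ((ι F S).op.lanUnit.naturality u)).symm

variable (F S) in
/-- The retraction of the extension to the pointed presheaf. -/
noncomputable def retr : (ι F S).op.lan ⋙ res F S ⟶ addPt F S where
  app P :=
    { app := fun V => TypeCat.ofHom (retrApp P V.unop)
      naturality := fun V V' g => by
        ext e
        obtain ⟨W, k, x, rfl⟩ := exists_elt P e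
        show retrApp P V'.unop (((ι F S).op.lan.obj P).map ((ι F S).map g.unop).op (elt P k x)) =
          Option.map (P.map g) (retrApp P V.unop (elt P k x))
        rw [map_ι_elt, retrApp_elt, retrApp_elt]
        have hb : ((ι F S).map g.unop ≫ k).base = k.base := Category.id_comp _
        by_cases h : k.base = 𝟙 S
        · rw [dif_pos (hb.trans h), dif_pos h, Option.map_some]
          refine congrArg some ?_
          rw [show vert ((ι F S).map g.unop ≫ k) (hb.trans h) = g.unop ≫ vert k h from
            ι_injective (by rw [ι_vert, Functor.map_comp, ι_vert]), op_comp, Quiver.Hom.op_unop]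
          exact Functor.map_comp_apply P _ g x
        · rw [dif_neg (fun h' => h (hb.symm.trans h')), dif_neg h, Option.map_none] }
  naturality P Q u := by
    ext V e
    obtain ⟨W, k, x, rfl⟩ := exists_elt P e
    show retrApp Q V.unop (((ι F S).op.lan.map u).app (op ((ι F S).obj V.unop)) (elt P k x)) =
      Option.map (u.app V) (retrApp P V.unop (elt P k x))
    rw [lan_map_elt, retrApp_elt, retrApp_elt]
    by_cases h : k.base = 𝟙 S
    · rw [dif_pos h, dif_pos h, Option.map_some]
      exact congrArg some (NatTrans.naturality_apply u (vert k h).op x).symm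
    · rw [dif_neg h, dif_neg h, Option.map_none]

lemma retrApp_unit (P : Psh F S) {V : F.obj ⟨op S⟩} (x : P.obj (op V)) :
    retrApp P V (((ι F S).op.lanUnit.app P).app (op V) x) = some x := by
  have h1 : elt P (𝟙 ((ι F S).obj V)) x = ((ι F S).op.lanUnit.app P).app (op V) x := by simp [elt]
  rw [← h1, retrApp_elt, dif_pos (show (𝟙 ((ι F S).obj V) : (ι F S).obj V ⟶ _).base = 𝟙 S from rfl),
    show vert (𝟙 ((ι F S).obj V)) rfl = 𝟙 V from ι_injective (by rw [ι_vert, CategoryTheory.Functor.map_id])]
  simp

lemma eq_unit_of_retrApp (P : Psh F S) {V : F.obj ⟨op S⟩} {e : extObj P V} {x : P.obj (op V)}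
    (h : retrApp P V e = some x) : e = ((ι F S).op.lanUnit.app P).app (op V) x := by
  obtain ⟨W, k, y, rfl⟩ := exists_elt P e
  rw [retrApp_elt] at h
  by_cases hk : k.base = 𝟙 S
  · rw [dif_pos hk, Option.some.injEq] at h
    rw [← h]
    refine Eq.trans ?_ (NatTrans.naturality_apply ((ι F S).op.lanUnit.app P) (vert k hk).op y).symm
    show _ = ((ι F S).op.lan.obj P).map ((ι F S).map (vert k hk)).op _
    rw [ι_vert]
    rfl
  · rw [dif_neg hk] at h
    exact absurd h (by simp)

/-- The unit is cartesian. -/
theorem isPullback_unit {P Q : Psh F S} (u : P ⟶ Q) :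
    IsPullback ((ι F S).op.lanUnit.app P) u ((res F S).map ((ι F S).op.lan.map u)) ((ι F S).op.lanUnit.app Q) := by
  refine IsPullback.of_forall_isPullback_app fun V => ?_
  rw [Types.isPullback_iff]
  refine ⟨congrArg (fun q => q.app V) ((ι F S).op.lanUnit.naturality u).symm, fun a b hab => ?_, fun e y hey => ?_⟩
  · have := congrArg (retrApp P V.unop) hab.1
    exact Option.some.inj (((retrApp_unit P a).symm.trans this).trans (retrApp_unit P b))
  · obtain ⟨W, k, x, rfl⟩ := exists_elt P e
    have h1 : Option.map (u.app V) (retrApp P V.unop (elt P k x)) = some y :=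
      ((congrArg (fun q => q.app V (elt P k x)) ((retr F S).naturality u)).symm.trans
        (congrArg (retrApp Q V.unop) hey)).trans (retrApp_unit Q y)
    obtain ⟨x', hx', hx''⟩ := Option.map_eq_some_iff.1 h1
    exact ⟨x', (eq_unit_of_retrApp P hx').symm, hx''⟩

variable {J : FibSite.Topologies F} (hF : FibSite.IsPreFibSite F J)

include hF

/-- Local isomorphisms of a fibre are detected by their extensions. -/
theorem W_iff {P Q : Psh F S} (u : P ⟶ Q) :
    (J S).W u ↔ (FibSite.totalTopology F J).W ((ι F S).op.lan.map u) := by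
  have := isContinuous_ι hF S
  have := isCocontinuous_ι hF S
  refine ⟨Functor.W_map_of_adjunction_of_isContinuous (J S) _ (ι F S) _ ((ι F S).op.lanAdjunction (Type u)) u,
    fun h => ?_⟩
  rw [GrothendieckTopology.W_iff] at h ⊢
  have h' : IsIso ((presheafToSheaf (J S) (Type u)).map ((res F S).map ((ι F S).op.lan.map u))) := by
    exact (NatIso.isIso_map_iff ((ι F S).pushforwardContinuousSheafificationCompatibility (Type u) (J S)
      (FibSite.totalTopology F J)) ((ι F S).op.lan.map u)).2
        (inferInstanceAs (IsIso (((ι F S).sheafPushforwardContinuous (Type u) (J S) (FibSite.totalTopology F J)).map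
          ((presheafToSheaf (FibSite.totalTopology F J) (Type u)).map ((ι F S).op.lan.map u)))))
  exact MorphismProperty.of_isPullback (P := MorphismProperty.isomorphisms _)
    ((isPullback_unit u).map (presheafToSheaf (J S) (Type u))) h'

omit hF

variable (F S)

/-- The section into the restricted right Kan extension. -/
noncomputable def sect : addPt F S ⟶ addPt F S ⋙ (ι F S).op.ran ⋙ res F S where
  app P := (((ι F S).op.lanAdjunction (Type u)).comp ((ι F S).op.ranAdjunction (Type u))).homEquiv _ _
    ((retr F S).app ((addPt F S).obj P) ≫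
      Functor.whiskerLeft P joinNat)
  naturality P Q u := by
    dsimp only [Functor.comp_map]
    refine (Adjunction.homEquiv_naturality_left _ _ _).symm.trans
      ((congrArg _ ?_).trans (Adjunction.homEquiv_naturality_right _ _ _))
    erw [(retr F S).naturality_assoc ((addPt F S).map u)]
    rw [Category.assoc]
    refine congrArg _ ?_
    ext X x
    rcases x with _ | (_ | _) <;> rfl

lemma sect_counit (P : Psh F S) :
    (sect F S).app P ≫ ((ι F S).op.ranAdjunction (Type u)).counit.app ((addPt F S).obj P) = 𝟙 _ := by
  dsimp only [sect]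
  rw [Adjunction.comp_homEquiv]
  dsimp
  erw [((ι F S).op.lanAdjunction (Type u)).homEquiv_unit]
  rw [Category.assoc]
  refine (congrArg (_ ≫ ·) (((ι F S).op.ranAdjunction (Type u)).homEquiv_counit _ _ _).symm).trans ?_
  refine (congrArg (((ι F S).op.lanAdjunction (Type u)).unit.app (P ⋙ optF) ≫ ·) (Equiv.symm_apply_apply _ _)).trans ?_
  rw [Functor.lanAdjunction_unit]
  ext V x
  exact congrArg Option.join (retrApp_unit ((addPt F S).obj P) x)

end Groth.Agent.FibSiteLib
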