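import Groth.Prelude.Def_FibSite
import Mathlib.CategoryTheory.Sites.InducedTopology
import Mathlib.CategoryTheory.Sites.LocallyBijective
import Mathlib.CategoryTheory.Sites.LeftExact
import Mathlib.CategoryTheory.Sites.Limits

/-!
# The total topology of a pre-fibred site
-/

set_option autoImplicit false
set_option backward.isDefEq.respectTransparency false
set_option backward.isDefEq.respectTransparency.types false

universe w v₃ u₃ v₂ u₂ v₁ u₁

open CategoryTheory CategoryTheory.Limits Opposite Pseudofunctor.CoGrothendieck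

namespace Groth.Agent.FibSiteLib

variable {𝒮 : Type u₁} [Category.{v₁} 𝒮] {F : Pseudofunctor (LocallyDiscrete 𝒮ᵒᵖ) Cat.{v₂, u₂}}

/-- A morphism of the total category. -/
abbrev mkHom {X Y : ∫ᶜ F} (f : X.base ⟶ Y.base) (a : X.fiber ⟶ (FibSite.invImage F f).obj Y.fiber) : X ⟶ Y :=
  ⟨f, a⟩

variable {R S : 𝒮}

lemma mkHom_ι (f : R ⟶ S) {V : F.obj ⟨op R⟩} {W U : F.obj ⟨op S⟩} (a : V ⟶ (FibSite.invImage F f).obj W)
    (g : W ⟶ U) :
    (mkHom (X := ⟨R, V⟩) (Y := ⟨S, W⟩) f a) ≫ (ι F S).map g =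
      mkHom (X := ⟨R, V⟩) (Y := ⟨S, U⟩) f (a ≫ (FibSite.invImage F f).map g) := by
  have h := Hom.congr (Category.comp_id (mkHom (X := ⟨R, (FibSite.invImage F f).obj U⟩) (Y := ⟨S, U⟩) f (𝟙 _)))
  refine Hom.ext _ _ (Category.comp_id f) ?_
  refine Eq.trans ?_ ((congrArg ((a ≫ (FibSite.invImage F f).map g) ≫ ·) (h.trans (Category.id_comp _))).trans (by rfl))
  show a ≫ (FibSite.invImage F f).map (g ≫ _) ≫ _ = (a ≫ (FibSite.invImage F f).map g) ≫ 𝟙 _ ≫ _ ≫ _
  simp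
  rfl

lemma ι_mkHom (f : R ⟶ S) {V' V : F.obj ⟨op R⟩} {U : F.obj ⟨op S⟩} (h : V' ⟶ V)
    (a : V ⟶ (FibSite.invImage F f).obj U) :
    (ι F R).map h ≫ (mkHom (X := ⟨R, V⟩) (Y := ⟨S, U⟩) f a) =
      mkHom (X := ⟨R, V'⟩) (Y := ⟨S, U⟩) f (h ≫ a) := by
  have hid := Hom.congr (Category.id_comp (mkHom (X := ⟨R, V⟩) (Y := ⟨S, U⟩) f a))
  refine Hom.ext _ _ (Category.id_comp f) ?_
  show (h ≫ _) ≫ _ = (h ≫ a) ≫ _
  rw [Category.assoc, Category.assoc]
  exact congrArg (h ≫ ·) hid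

lemma mkHom_eq_lift (f : R ⟶ S) {V : F.obj ⟨op R⟩} {U : F.obj ⟨op S⟩} (a : V ⟶ (FibSite.invImage F f).obj U) :
    (mkHom (X := ⟨R, V⟩) (Y := ⟨S, U⟩) f a) = (ι F R).map a ≫ cartesianLift U f := by
  rw [show cartesianLift U f = mkHom (X := ⟨R, (FibSite.invImage F f).obj U⟩) (Y := ⟨S, U⟩) f (𝟙 _) from rfl,
    ι_mkHom, Category.comp_id]

lemma lift_naturality (f : R ⟶ S) {U U' : F.obj ⟨op S⟩} (g : U ⟶ U') :
    cartesianLift U f ≫ (ι F S).map g = (ι F R).map ((FibSite.invImage F f).map g) ≫ cartesianLift U' f := by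
  rw [← mkHom_eq_lift]
  exact (mkHom_ι f (𝟙 _) g).trans (by rw [Category.id_comp])

lemma eq_of_mkHom_eq {f : R ⟶ S} {V : F.obj ⟨op R⟩} {U : F.obj ⟨op S⟩} {a b : V ⟶ (FibSite.invImage F f).obj U}
    (h : mkHom (X := ⟨R, V⟩) (Y := ⟨S, U⟩) f a = mkHom (X := ⟨R, V⟩) (Y := ⟨S, U⟩) f b) : a = b := by
  obtain ⟨_, h'⟩ := (Hom.ext_iff _ _).1 h
  simpa using h'

lemma ι_map_eq {V U : F.obj ⟨op S⟩} (a : V ⟶ U) :
    (ι F S).map a = mkHom (X := ⟨S, V⟩) (Y := ⟨S, U⟩) (𝟙 S) (a ≫ (F.mapId ⟨op S⟩).inv.toNatTrans.app U) := rfl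

lemma ι_injective {V U : F.obj ⟨op S⟩} {a b : V ⟶ U} (h : (ι F S).map a = (ι F S).map b) : a = b := by
  have h' := eq_of_mkHom_eq h
  have e := congrArg (· ≫ (F.mapId ⟨op S⟩).hom.toNatTrans.app U) h'
  simpa [← Cat.Hom₂.comp_app] using e

lemma exists_vertical {V U : F.obj ⟨op S⟩} (k : (ι F S).obj V ⟶ (ι F S).obj U) (hk : k.base = 𝟙 S) :
    ∃ a : V ⟶ U, (ι F S).map a = k := by
  obtain ⟨f, a⟩ := k
  subst hk
  refine ⟨a ≫ (F.mapId ⟨op S⟩).hom.toNatTrans.app U, ?_⟩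
  rw [ι_map_eq]
  congr 1
  simp [← Cat.Hom₂.comp_app]
  exact Category.comp_id _

variable {J : FibSite.Topologies F} (hF : FibSite.IsPreFibSite F J)

include hF

lemma pushforward_mem {f : R ⟶ S} {U : F.obj ⟨op S⟩} {T : Sieve U} (hT : T ∈ J S U) :
    T.functorPushforward (FibSite.invImage F f) ∈ J R ((FibSite.invImage F f).obj U) :=
  haveI := hF f
  (CoverPreserving.of_isContinuous (FibSite.invImage F f) (J S) (J R)).cover_preserve hT

/-- The pullback of the image of a covering sieve contains one. -/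
lemma exists_pullback {X : ∫ᶜ F} {U : F.obj ⟨op S⟩} (f : X ⟶ ⟨S, U⟩) {T : Sieve U} (hT : T ∈ J S U) :
    ∃ T' ∈ J X.base X.fiber, T'.functorPushforward (ι F X.base) ≤ (T.functorPushforward (ι F S)).pullback f := by
  obtain ⟨R, V⟩ := X
  obtain ⟨b, a⟩ := f
  refine ⟨(T.functorPushforward (FibSite.invImage F b)).pullback a, (J R).pullback_stable a (pushforward_mem hF hT), ?_⟩
  rintro Y _ ⟨W, h, k, ⟨W', g, c, hg, hc⟩, rfl⟩
  show (T.functorPushforward (ι F S)).arrows ((k ≫ (ι F R).map h) ≫ mkHom (X := ⟨R, V⟩) (Y := ⟨S, U⟩) b a)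
  refine ⟨W', g, k ≫ mkHom (X := ⟨R, W⟩) (Y := ⟨S, W'⟩) b c, hg, ?_⟩
  rw [Category.assoc, Category.assoc, ι_mkHom, mkHom_ι, hc]

/-- The covering sieves of the total site. -/
def totalSieves : GrothendieckTopology (∫ᶜ F) where
  sieves X := {T | ∃ T' ∈ J X.base X.fiber, T'.functorPushforward (ι F X.base) ≤ T}
  top_mem' X := ⟨⊤, (J X.base).top_mem _, le_top⟩
  pullback_stable' X Y T f hT := by
    obtain ⟨T', hT', hle⟩ := hT
    obtain ⟨S, U⟩ := X
    obtain ⟨T'', hT'', hle'⟩ := exists_pullback hF f hT'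
    exact ⟨T'', hT'', hle'.trans (fun _ g hg => hle _ hg)⟩
  transitive' X T hT T₁ h := by
    obtain ⟨T', hT', hle⟩ := hT
    obtain ⟨S, U⟩ := X
    have h' : ∀ ⦃W : F.obj ⟨op S⟩⦄ ⦃g : W ⟶ U⦄, T' g →
        ∃ T'' ∈ J S W, T''.functorPushforward (ι F S) ≤ T₁.pullback ((ι F S).map g) :=
      fun W g hg => h (hle _ ⟨W, g, 𝟙 _, hg, (Category.id_comp _).symm⟩)
    choose T'' hT'' hle'' using h'
    refine ⟨Sieve.bind T'.arrows fun W g hg => T'' hg, (J S).bind_covering hT' fun W g hg => hT'' hg, ?_⟩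
    rintro Y _ ⟨W, _, k, ⟨W', g, h₀, hh₀, hg, rfl⟩, rfl⟩
    have := hle'' hh₀ _ (Sieve.image_mem_functorPushforward (ι F S) _ hg)
    rw [Functor.map_comp]
    exact T₁.downward_closed this k

/-- The covering sieves of the total topology. -/
theorem mem_totalTopology_iff (X : ∫ᶜ F) (T : Sieve X) :
    T ∈ FibSite.totalTopology F J X ↔ ∃ T' ∈ J X.base X.fiber, T'.functorPushforward (ι F X.base) ≤ T := by
  constructor
  · intro h
    exact FibSite.totalTopology_le (K := totalSieves hF) (fun S U R hR => ⟨R, hR, le_rfl⟩) X h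
  · rintro ⟨T', hT', hle⟩
    exact (FibSite.totalTopology F J).superset_covering hle (FibSite.functorPushforward_mem_totalTopology hT')

/-- The fibre inclusions are cocontinuous. -/
theorem isCocontinuous_ι (S : 𝒮) : (ι F S).IsCocontinuous (J S) (FibSite.totalTopology F J) where
  cover_lift {U T} hT := by
    obtain ⟨T', hT', hle⟩ := (mem_totalTopology_iff hF _ T).1 hT
    exact (J S).superset_covering (fun W g hg => hle _ (Sieve.image_mem_functorPushforward _ _ hg)) hT'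

/-- Sheaves of types on the total site. -/
theorem isSheaf_types_of_fibre {P : (∫ᶜ F)ᵒᵖ ⥤ Type w}
    (h : ∀ S : 𝒮, Presieve.IsSheaf (J S) ((ι F S).op ⋙ P)) : Presieve.IsSheaf (FibSite.totalTopology F J) P := by
  intro X T hT
  obtain ⟨T', hT', hle⟩ := (mem_totalTopology_iff hF X T).1 hT
  obtain ⟨S, U⟩ := X
  intro x hx
  let x' : Presieve.FamilyOfElements ((ι F S).op ⋙ P) T'.arrows :=
    fun W g hg => x ((ι F S).map g) (hle _ (Sieve.image_mem_functorPushforward _ _ hg))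
  have hx' : x'.Compatible := fun W₁ W₂ Z a₁ a₂ g₁ g₂ h₁ h₂ e =>
    hx ((ι F S).map a₁) ((ι F S).map a₂) _ _ (by rw [← Functor.map_comp, e, Functor.map_comp])
  obtain ⟨t, ht, htu⟩ := h S T' hT' x' hx'
  refine ⟨t, fun Y f hf => ?_, fun t' ht' => htu t' fun W g hg => ht' _ _⟩
  obtain ⟨T'', hT'', hle'⟩ := exists_pullback hF f hT'
  refine (h Y.base T'' hT'').isSeparatedFor.ext fun W g hg => ?_
  obtain ⟨W', g', k, hg', e⟩ := hle' _ (Sieve.image_mem_functorPushforward _ _ hg)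
  show P.map ((ι F Y.base).map g).op (P.map f.op t) = P.map ((ι F Y.base).map g).op (x f hf)
  have e₁ : P.map ((ι F Y.base).map g ≫ f).op t = P.map k.op (x ((ι F S).map g') (hle _
      (Sieve.image_mem_functorPushforward _ _ hg'))) := by
    rw [e, op_comp, Functor.map_comp_apply]
    exact congrArg _ (ht g' hg')
  exact ((Functor.map_comp_apply P f.op ((ι F Y.base).map g).op t).symm.trans e₁).trans
    (hx k ((ι F Y.base).map g) _ hf e.symm)

/-- Compatible families in a fibre stay compatible in the total category. -/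
lemma compat_aux {P : (∫ᶜ F)ᵒᵖ ⥤ Type w} (hP : Presieve.IsSheaf (FibSite.totalTopology F J) P) (S : 𝒮)
    {U : F.obj ⟨op S⟩} {T : Sieve U} (hT : T ∈ J S U)
    {x : Presieve.FamilyOfElements ((ι F S).op ⋙ P) T.arrows} (hx : x.Compatible)
    {R : 𝒮} {V : F.obj ⟨op R⟩} (f : R ⟶ S) {W₁ W₂ : F.obj ⟨op S⟩} {g₁ : W₁ ⟶ U} {g₂ : W₂ ⟶ U} (h₁ : T g₁) (h₂ : T g₂)
    (a₁ : V ⟶ (FibSite.invImage F f).obj W₁) (a₂ : V ⟶ (FibSite.invImage F f).obj W₂)
    (e : a₁ ≫ (FibSite.invImage F f).map g₁ = a₂ ≫ (FibSite.invImage F f).map g₂) :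
    P.map (mkHom (X := ⟨R, V⟩) (Y := ⟨S, W₁⟩) f a₁).op (x g₁ h₁) =
      P.map (mkHom (X := ⟨R, V⟩) (Y := ⟨S, W₂⟩) f a₂).op (x g₂ h₂) := by
  have hsep : ∀ (W : F.obj ⟨op R⟩) (T' : Sieve W), T' ∈ J R W →
      Presieve.IsSeparatedFor ((ι F R).op ⋙ P) T'.arrows := fun W T' hT' z t₁ t₂ ht₁ ht₂ =>
    (hP _ (FibSite.functorPushforward_mem_totalTopology hT')).isSeparatedFor.ext fun Z _ hk => by
      obtain ⟨W', g, k, hg, rfl⟩ := hk
      rw [op_comp, Functor.map_comp_apply, Functor.map_comp_apply]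
      exact congrArg _ ((ht₁ g hg).trans (ht₂ g hg).symm)
  have pm : ∀ {A B D : ∫ᶜ F} (u : A ⟶ B) (v : B ⟶ D) (y : P.obj (op D)),
      P.map u.op (P.map v.op y) = P.map (u ≫ v).op y :=
    fun u v y => (Functor.map_comp_apply P v.op u.op y).symm
  let Pu : (F.obj ⟨op R⟩)ᵒᵖ ⥤ Type (max w u₂ v₂) := (ι F R).op ⋙ P ⋙ uliftFunctor.{max u₂ v₂}
  let η := (J R).toPlus Pu
  have hsep' : ∀ (W : F.obj ⟨op R⟩) (c : (J R).Cover W) (p q : Pu.obj (op W)),
      (∀ I : c.Arrow, Pu.map I.f.op p = Pu.map I.f.op q) → p = q := fun W c p q hpq => by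
    apply ULift.ext
    exact (hsep W _ c.2).ext fun Z g hg => congrArg ULift.down (hpq ⟨Z, g, hg⟩)
  have hη : ∀ W : F.obj ⟨op R⟩, Function.Injective (η.app (op W)) :=
    GrothendieckTopology.Plus.inj_of_sep Pu hsep'
  have := hF f
  have hsh : Presieve.IsSheaf (J S) ((FibSite.invImage F f).op ⋙ (J R).plusObj Pu) :=
    Functor.op_comp_isSheaf_of_types (FibSite.invImage F f) (J S) (J R)
      ⟨_, GrothendieckTopology.Plus.isSheaf_of_sep Pu hsep'⟩
  let z : Presieve.FamilyOfElements ((FibSite.invImage F f).op ⋙ (J R).plusObj Pu) T.arrows :=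
    fun W g hg => η.app (op ((FibSite.invImage F f).obj W)) ⟨P.map (cartesianLift W f).op (x g hg)⟩
  have hz : z.Compatible := fun Y₁ Y₂ Z b₁ b₂ k₁ k₂ m₁ m₂ w => by
    show ((J R).plusObj Pu).map ((FibSite.invImage F f).map b₁).op _ =
      ((J R).plusObj Pu).map ((FibSite.invImage F f).map b₂).op _
    dsimp only [z]
    rw [← NatTrans.naturality_apply, ← NatTrans.naturality_apply]
    refine congrArg _ (ULift.ext _ _ ?_)
    show P.map ((ι F R).map ((FibSite.invImage F f).map b₁)).op (P.map (cartesianLift Y₁ f).op (x k₁ m₁)) =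
      P.map ((ι F R).map ((FibSite.invImage F f).map b₂)).op (P.map (cartesianLift Y₂ f).op (x k₂ m₂))
    refine ((pm _ _ _).trans ?_).trans (pm _ _ _).symm
    rw [← lift_naturality, ← lift_naturality]
    exact ((pm _ _ _).symm.trans (congrArg _ (hx b₁ b₂ m₁ m₂ w))).trans (pm _ _ _)
  obtain ⟨t, ht, -⟩ := hsh T hT z hz
  have key : ∀ {W : F.obj ⟨op S⟩} (g : W ⟶ U) (hg : T g) (a : V ⟶ (FibSite.invImage F f).obj W),
      η.app (op V) ⟨P.map (mkHom (X := ⟨R, V⟩) (Y := ⟨S, W⟩) f a).op (x g hg)⟩ =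
        ((J R).plusObj Pu).map (a ≫ (FibSite.invImage F f).map g).op t := fun {W} g hg a => by
    refine Eq.trans ?_ (Functor.map_comp_apply ((J R).plusObj Pu) ((FibSite.invImage F f).map g).op a.op t).symm
    refine Eq.trans ?_ (congrArg (((J R).plusObj Pu).map a.op) (ht g hg)).symm
    dsimp only [z]
    rw [← NatTrans.naturality_apply]
    refine congrArg _ (ULift.ext _ _ ?_)
    show P.map (mkHom (X := ⟨R, V⟩) (Y := ⟨S, W⟩) f a).op (x g hg) =
      P.map ((ι F R).map a).op (P.map (cartesianLift W f).op (x g hg))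
    exact (congrArg (fun q => P.map (Quiver.Hom.op q) (x g hg)) (mkHom_eq_lift f a)).trans (pm _ _ _).symm
  exact congrArg ULift.down (hη V ((key g₁ h₁ a₁).trans ((congrArg (fun q : V ⟶ _ =>
    ((J R).plusObj Pu).map q.op t) e).trans (key g₂ h₂ a₂).symm)))

/-- Restrictions of sheaves of types to the fibres. -/
theorem isSheaf_types_fibre {P : (∫ᶜ F)ᵒᵖ ⥤ Type w} (hP : Presieve.IsSheaf (FibSite.totalTopology F J) P) (S : 𝒮) :
    Presieve.IsSheaf (J S) ((ι F S).op ⋙ P) := by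
  intro U T hT x hx
  have hx₂ : (x.functorPushforward (ι F S)).Compatible := by
    rintro ⟨R₁, V₁⟩ ⟨R₂, V₂⟩ ⟨Q, Z⟩ k₁ k₂ f₁ f₂ h₁ h₂ w
    dsimp [Presieve.FamilyOfElements.functorPushforward]
    obtain ⟨W₁, g₁, c₁, hg₁, rfl⟩ := Presieve.getFunctorPushforwardStructure h₁
    obtain ⟨W₂, g₂, c₂, hg₂, rfl⟩ := Presieve.getFunctorPushforwardStructure h₂
    dsimp only
    rw [← Category.assoc, ← Category.assoc] at w
    rw [← Functor.map_comp_apply, ← Functor.map_comp_apply, ← op_comp, ← op_comp]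
    generalize k₁ ≫ c₁ = m₁ at w ⊢
    generalize k₂ ≫ c₂ = m₂ at w ⊢
    obtain ⟨b₁, a₁⟩ := m₁
    obtain ⟨b₂, a₂⟩ := m₂
    replace w := ((mkHom_ι b₁ a₁ g₁).symm.trans w).trans (mkHom_ι b₂ a₂ g₂)
    obtain rfl : b₁ = b₂ := ((Hom.ext_iff _ _).1 w).1
    exact compat_aux hF hP S hT hx b₁ hg₁ hg₂ a₁ a₂ (eq_of_mkHom_eq w)
  obtain ⟨t, ht, htu⟩ := hP _ (FibSite.functorPushforward_mem_totalTopology hT) _ hx₂
  have happ : ∀ {W : F.obj ⟨op S⟩} {g : W ⟶ U} (hg : T g),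
      x.functorPushforward (ι F S) ((ι F S).map g) (Sieve.image_mem_functorPushforward _ _ hg) = x g hg := by
    intro W g hg
    dsimp [Presieve.FamilyOfElements.functorPushforward]
    obtain ⟨W', g', c, hg', e⟩ := Presieve.getFunctorPushforwardStructure
      (Sieve.image_mem_functorPushforward (ι F S) T hg)
    dsimp only
    obtain ⟨b, a⟩ := c
    replace e := e.trans (mkHom_ι b a g')
    obtain rfl : 𝟙 S = b := ((Hom.ext_iff _ _).1 e).1
    obtain ⟨a', ha'⟩ := exists_vertical (mkHom (X := ⟨S, W⟩) (Y := ⟨S, W'⟩) (𝟙 S) a) rfl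
    have eg : g = a' ≫ g' := ι_injective (by rw [e, Functor.map_comp, ha', mkHom_ι])
    refine (congrArg (fun q => P.map (Quiver.Hom.op q) (x g' hg')) ha'.symm).trans ?_
    have := hx a' (𝟙 W) hg' hg (by rw [Category.id_comp, eg])
    exact this.trans (by simp)
  refine ⟨t, fun W g hg => (ht _ (Sieve.image_mem_functorPushforward _ _ hg)).trans (happ hg), fun t' ht' => htu t' ?_⟩
  intro Y f hf
  dsimp [Presieve.FamilyOfElements.functorPushforward]
  obtain ⟨W, g, c, hg, rfl⟩ := Presieve.getFunctorPushforwardStructure hf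
  dsimp only
  rw [op_comp, Functor.map_comp_apply]
  exact congrArg _ (ht' g hg)

/-- The fibre inclusions are continuous. -/
theorem isContinuous_ι (S : 𝒮) : (ι F S).IsContinuous (J S) (FibSite.totalTopology F J) where
  op_comp_isSheaf_of_types G := isSheaf_types_fibre hF ((isSheaf_iff_isSheaf_of_type _ _).1 G.property) S

/-- Sheaves on the total site. -/
theorem isSheaf_totalTopology_iff {A : Type u₃} [Category.{v₃} A] (P : (∫ᶜ F)ᵒᵖ ⥤ A) :
    Presheaf.IsSheaf (FibSite.totalTopology F J) P ↔ ∀ S : 𝒮, Presheaf.IsSheaf (J S) ((ι F S).op ⋙ P) :=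
  ⟨fun h S E => isSheaf_types_fibre hF (h E) S, fun h E => isSheaf_types_of_fibre hF fun S => h S E⟩

/-- The total topology induces the fibre topologies. -/
theorem inducedTopology_ι (S : 𝒮) : (ι F S).inducedTopology (FibSite.totalTopology F J) = J S := by
  refine le_antisymm (fun U T hT => ?_) (Functor.le_inducedTopology_iff.2 (isContinuous_ι hF S))
  have h := (CoverPreserving.of_isContinuous (ι F S) ((ι F S).inducedTopology (FibSite.totalTopology F J))
    (FibSite.totalTopology F J)).cover_preserve hT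
  obtain ⟨T', hT', hle⟩ := (mem_totalTopology_iff hF _ _).1 h
  refine (J S).superset_covering (fun W g hg => ?_) hT'
  obtain ⟨W', g', c, hg', e⟩ := hle _ (Sieve.image_mem_functorPushforward (ι F S) _ hg)
  obtain ⟨b, a⟩ := c
  replace e := e.trans (mkHom_ι b a g')
  obtain rfl : 𝟙 S = b := ((Hom.ext_iff _ _).1 e).1
  obtain ⟨a', ha'⟩ := exists_vertical (mkHom (X := ⟨S, W⟩) (Y := ⟨S, W'⟩) (𝟙 S) a) rfl
  rw [show g = a' ≫ g' from ι_injective (by rw [e, Functor.map_comp, ha', mkHom_ι])]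
  exact T.downward_closed hg' a'

/-- Continuity on the total site. -/
theorem isContinuous_total_iff {D : Type u₃} [Category.{v₃} D] (K : GrothendieckTopology D) (m : ∫ᶜ F ⥤ D) :
    m.IsContinuous (FibSite.totalTopology F J) K ↔ ∀ S : 𝒮, (ι F S ⋙ m).IsContinuous (J S) K := by
  refine ⟨fun h S => ?_, fun h => ⟨fun G => isSheaf_types_of_fibre hF fun S => ?_⟩⟩
  · have := isContinuous_ι hF S
    exact Functor.isContinuous_comp _ _ _ (FibSite.totalTopology F J) _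
  · have := h S
    exact Functor.op_comp_isSheaf_of_types (ι F S ⋙ m) (J S) K G

end Groth.Agent.FibSiteLib
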