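import Groth.Agent.FibSiteLib.Retraction
import Mathlib.CategoryTheory.Adjunction.FullyFaithful
import Mathlib.CategoryTheory.Limits.Shapes.Products

/-!
# Values of extensions from one fibre on another
-/

set_option autoImplicit false
set_option backward.isDefEq.respectTransparency false
set_option backward.isDefEq.respectTransparency.types false

universe u

open CategoryTheory CategoryTheory.Limits Opposite Pseudofunctor.CoGrothendieck

namespace Groth.Agent.FibSiteLib

variable {𝒮 : Type u} [SmallCategory 𝒮] {F : Pseudofunctor (LocallyDiscrete 𝒮ᵒᵖ) Cat.{u, u}} {i j : 𝒮}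

/-- The cartesian lifts as a natural transformation. -/
def liftNat (f : j ⟶ i) : FibSite.invImage F f ⋙ ι F j ⟶ ι F i where
  app U := cartesianLift U f
  naturality _ _ g := (lift_naturality f g).symm

/-- The square of an inverse image. -/
def liftSquare (f : j ⟶ i) :
    TwoSquare (FibSite.invImage F f) (𝟭 (F.obj ⟨op i⟩)) (ι F j) (ι F i) :=
  TwoSquare.mk _ _ _ _ (liftNat f ≫ (Functor.leftUnitor _).inv)

/-- With one base morphism the square is exact. -/
theorem guitartExact_liftSquare (f : j ⟶ i) (hf : ∀ g : j ⟶ i, g = f) :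
    (liftSquare (F := F) f).GuitartExact := by
  rw [TwoSquare.guitartExact_iff_isConnected_rightwards]
  intro V W g
  obtain ⟨b, a⟩ := g
  obtain rfl : b = f := hf b
  let g : (ι F j).obj V ⟶ (ι F i).obj W := ⟨b, a⟩
  let j₀ : (liftSquare b).StructuredArrowRightwards g :=
    TwoSquare.StructuredArrowRightwards.mk (liftSquare b) g W a (𝟙 W) (by
      simp [liftSquare, liftNat]
      exact (mkHom_eq_lift b a).symm)
  have key : ∀ x, Nonempty (x ⟶ j₀) := fun x => by
    obtain ⟨U, c, d, hcd, rfl⟩ := TwoSquare.StructuredArrowRightwards.mk_surjective x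
    refine ⟨StructuredArrow.homMk (CostructuredArrow.homMk d (Category.comp_id _)) ?_⟩
    apply CostructuredArrow.hom_ext
    show c ≫ (FibSite.invImage F b).map d = a
    apply eq_of_mkHom_eq
    refine Eq.trans ?_ hcd
    simp only [liftSquare, liftNat, TwoSquare.mk, Functor.leftUnitor, NatTrans.comp_app, Category.comp_id]
    rw [mkHom_eq_lift, Functor.map_comp, Category.assoc, ← lift_naturality]
  have : Nonempty ((liftSquare b).StructuredArrowRightwards g) := ⟨j₀⟩
  exact zigzag_isConnected fun x y => (Zigzag.of_hom (key x).some).trans (Zigzag.of_inv (key y).some)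

variable (i j)

/-- The extension from one fibre, evaluated on another. -/
noncomputable abbrev extRes : Psh F i ⥤ Psh F j := (ι F i).op.lan ⋙ res F j

variable {i j}

/-- The map from a summand. -/
noncomputable def incl (f : j ⟶ i) (P : Psh F i) :
    (FibSite.invImage F f).op.lan.obj P ⟶ (extRes i j).obj P :=
  (((FibSite.invImage F f).op.lanAdjunction (Type u)).homEquiv _ _).symm
    ((ι F i).op.lanUnit.app P ≫ Functor.whiskerRight (NatTrans.op (liftNat f)) ((ι F i).op.lan.obj P))

lemma incl_unit (f : j ⟶ i) (P : Psh F i) (W : F.obj ⟨op i⟩) (x : P.obj (op W)) :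
    (incl f P).app (op ((FibSite.invImage F f).obj W)) (((FibSite.invImage F f).op.lanUnit.app P).app (op W) x) =
      ((ι F i).op.lan.obj P).map (cartesianLift W f).op (((ι F i).op.lanUnit.app P).app (op W) x) := by
  have h := Equiv.apply_symm_apply (((FibSite.invImage F f).op.lanAdjunction (Type u)).homEquiv P ((extRes i j).obj P))
    ((ι F i).op.lanUnit.app P ≫ Functor.whiskerRight (NatTrans.op (liftNat f)) ((ι F i).op.lan.obj P))
  rw [Adjunction.homEquiv_unit, Functor.lanAdjunction_unit] at h
  exact congrArg (fun q => q.app (op W) x) h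

/-- A representative of an element of the extension. -/
noncomputable abbrev eltIJ (P : Psh F i) {V : F.obj ⟨op j⟩} {W : F.obj ⟨op i⟩}
    (k : (ι F j).obj V ⟶ (ι F i).obj W) (x : P.obj (op W)) : ((extRes i j).obj P).obj (op V) :=
  ((ι F i).op.lan.obj P).map k.op (((ι F i).op.lanUnit.app P).app (op W) x)

/-- The pointwise colimit computing the values. -/
noncomputable def valColim (P : Psh F i) (V : F.obj ⟨op j⟩) :=
  Functor.isPointwiseLeftKanExtensionLeftKanExtensionUnit (ι F i).op P (op ((ι F j).obj V))

lemma exists_eltIJ (P : Psh F i) {V : F.obj ⟨op j⟩} (e : ((extRes i j).obj P).obj (op V)) :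
    ∃ (W : F.obj ⟨op i⟩) (f : j ⟶ i) (a : V ⟶ (FibSite.invImage F f).obj W) (x : P.obj (op W)),
      eltIJ P (mkHom (X := ⟨j, V⟩) (Y := ⟨i, W⟩) f a) x = e := by
  obtain ⟨k, x, hx⟩ := Types.jointly_surjective _ (valColim P V) e
  exact ⟨k.left.unop, k.hom.unop.base, k.hom.unop.fiber, x, hx⟩

lemma incl_rep (f : j ⟶ i) (P : Psh F i) {V : F.obj ⟨op j⟩} {W : F.obj ⟨op i⟩}
    (a : V ⟶ (FibSite.invImage F f).obj W) (x : P.obj (op W)) :
    (incl f P).app (op V) (((FibSite.invImage F f).op.lan.obj P).map a.op
      (((FibSite.invImage F f).op.lanUnit.app P).app (op W) x)) =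
      eltIJ P (mkHom (X := ⟨j, V⟩) (Y := ⟨i, W⟩) f a) x := by
  refine (NatTrans.naturality_apply (incl f P) a.op _).trans ?_
  rw [incl_unit]
  refine ((Functor.map_comp_apply ((ι F i).op.lan.obj P) (cartesianLift W f).op ((ι F j).map a).op _).symm.trans ?_)
  exact congrArg (fun q => ((ι F i).op.lan.obj P).map (Quiver.Hom.op q) _) (mkHom_eq_lift f a).symm

section Desc

variable (P : Psh F i) {T : Psh F j} (t : ∀ f : j ⟶ i, (FibSite.invImage F f).op.lan.obj P ⟶ T)

/-- The cocone of a family of maps. -/
noncomputable def descCocone (V : F.obj ⟨op j⟩) :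
    Cocone (CostructuredArrow.proj (ι F i).op (op ((ι F j).obj V)) ⋙ P) where
  pt := T.obj (op V)
  ι :=
    { app := fun k => TypeCat.ofHom fun x =>
        (t k.hom.unop.base).app (op V) (((FibSite.invImage F k.hom.unop.base).op.lan.obj P).map k.hom.unop.fiber.op
          (((FibSite.invImage F k.hom.unop.base).op.lanUnit.app P).app k.left x))
      naturality := fun k k' φ => by
        ext x
        have hw : k'.hom.unop ≫ (ι F i).map φ.left.unop = k.hom.unop :=
          congrArg Quiver.Hom.unop (CostructuredArrow.w φ)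
        show (t k'.hom.unop.base).app (op V) _ = (t k.hom.unop.base).app (op V) _
        have key : ∀ (m : (ι F j).obj V ⟶ (ι F i).obj k.left.unop),
            mkHom (X := ⟨j, V⟩) (Y := ⟨i, k.left.unop⟩) k'.hom.unop.base
              (k'.hom.unop.fiber ≫ (FibSite.invImage F _).map φ.left.unop) = m →
            (t k'.hom.unop.base).app (op V) (((FibSite.invImage F k'.hom.unop.base).op.lan.obj P).map
                k'.hom.unop.fiber.op
                (((FibSite.invImage F k'.hom.unop.base).op.lanUnit.app P).app k'.left (P.map φ.left x))) =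
              (t m.base).app (op V) (((FibSite.invImage F m.base).op.lan.obj P).map m.fiber.op
                (((FibSite.invImage F m.base).op.lanUnit.app P).app k.left x)) := by
          rintro m rfl
          refine congrArg _ ?_
          rw [op_comp, Functor.map_comp_apply]
          exact congrArg _ (NatTrans.naturality_apply ((FibSite.invImage F _).op.lanUnit.app P) φ.left x)
        exact key _ ((mkHom_ι _ _ _).symm.trans hw) }

/-- The values of the map out of the extension. -/
noncomputable def descApp (V : F.obj ⟨op j⟩) : ((extRes i j).obj P).obj (op V) → T.obj (op V) :=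
  (valColim P V).desc (descCocone P t V)

lemma descApp_rep {V : F.obj ⟨op j⟩} {W : F.obj ⟨op i⟩} (f : j ⟶ i) (a : V ⟶ (FibSite.invImage F f).obj W)
    (x : P.obj (op W)) :
    descApp P t V (eltIJ P (mkHom (X := ⟨j, V⟩) (Y := ⟨i, W⟩) f a) x) =
      (t f).app (op V) (((FibSite.invImage F f).op.lan.obj P).map a.op
        (((FibSite.invImage F f).op.lanUnit.app P).app (op W) x)) :=
  congrArg (fun q => q x) ((valColim P V).fac (descCocone P t V)
    (CostructuredArrow.mk (Y := op W) (mkHom (X := ⟨j, V⟩) (Y := ⟨i, W⟩) f a).op))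

/-- The map out of the extension. -/
noncomputable def descHom : (extRes i j).obj P ⟶ T where
  app V := TypeCat.ofHom (descApp P t V.unop)
  naturality V V' g := by
    ext e
    obtain ⟨W, f, a, x, rfl⟩ := exists_eltIJ P e
    show descApp P t V'.unop (((ι F i).op.lan.obj P).map ((ι F j).map g.unop).op
      (eltIJ P (mkHom (X := ⟨j, V.unop⟩) (Y := ⟨i, W⟩) f a) x)) = T.map g (descApp P t V.unop _)
    have e₁ : ((ι F i).op.lan.obj P).map ((ι F j).map g.unop).op
        (eltIJ P (mkHom (X := ⟨j, V.unop⟩) (Y := ⟨i, W⟩) f a) x) =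
          eltIJ P (mkHom (X := ⟨j, V'.unop⟩) (Y := ⟨i, W⟩) f (g.unop ≫ a)) x := by
      rw [← ι_mkHom f g.unop a]
      exact (Functor.map_comp_apply _ _ _ _).symm
    rw [e₁, descApp_rep, descApp_rep, op_comp, Functor.map_comp_apply]
    exact NatTrans.naturality_apply (t f) g _

end Desc

/-- The extension is the coproduct over the base morphisms. -/
noncomputable def inclIsColimit (P : Psh F i) :
    IsColimit (Cofan.mk ((extRes i j).obj P) fun f : j ⟶ i => incl f P) :=
  mkCofanColimit _ (fun s => descHom P s.inj)
    (fun s f => by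
      apply (((FibSite.invImage F f).op.lanAdjunction (Type u)).homEquiv _ _).injective
      rw [Adjunction.homEquiv_unit, Adjunction.homEquiv_unit, Functor.lanAdjunction_unit]
      ext W x
      show descApp P s.inj _ ((incl f P).app (op ((FibSite.invImage F f).obj W.unop)) _) = _
      refine (congrArg (descApp P s.inj _) (incl_unit f P W.unop x)).trans ?_
      refine (descApp_rep P s.inj f (𝟙 _) x).trans ?_
      rw [op_id, Functor.map_id_apply]
      rfl)
    fun s m hm => by
      ext V e
      obtain ⟨W, f, a, x, rfl⟩ := exists_eltIJ P e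
      refine Eq.trans ?_ (descApp_rep P s.inj f a x).symm
      rw [← incl_rep]
      have := congrArg (fun q : (FibSite.invImage F f).op.lan.obj P ⟶ s.pt => q.app V
        (((FibSite.invImage F f).op.lan.obj P).map a.op
          (((FibSite.invImage F f).op.lanUnit.app P).app (op W) x))) (hm f)
      exact this

section Ran

variable (Q : Psh F i)

/-- The projection from a product. -/
noncomputable def proj (f : i ⟶ j) :
    (res F j).obj ((ι F i).op.ran.obj Q) ⟶ (FibSite.invImage F f).op ⋙ Q where
  app V := ((ι F i).op.ran.obj Q).map (cartesianLift V.unop f).op ≫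
    ((ι F i).op.ranCounit.app Q).app (op ((FibSite.invImage F f).obj V.unop))
  naturality V V' g := by
    ext e
    show ((ι F i).op.ranCounit.app Q).app _ (((ι F i).op.ran.obj Q).map (cartesianLift V'.unop f).op
      (((ι F i).op.ran.obj Q).map ((ι F j).map g.unop).op e)) = _
    refine (congrArg _ ((Functor.map_comp_apply ((ι F i).op.ran.obj Q) ((ι F j).map g.unop).op
      (cartesianLift V'.unop f).op e).symm.trans ?_)).trans
      (NatTrans.naturality_apply ((ι F i).op.ranCounit.app Q) ((FibSite.invImage F f).map g.unop).op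
        (((ι F i).op.ran.obj Q).map (cartesianLift V.unop f).op e))
    refine Eq.trans ?_ (Functor.map_comp_apply ((ι F i).op.ran.obj Q) (cartesianLift V.unop f).op
      ((ι F i).map ((FibSite.invImage F f).map g.unop)).op e)
    exact congrArg (fun q => ((ι F i).op.ran.obj Q).map (Quiver.Hom.op q) e) (lift_naturality f g.unop)

variable {T : Psh F j} (t : ∀ f : i ⟶ j, T ⟶ (FibSite.invImage F f).op ⋙ Q)

/-- The pointwise limit computing the values. -/
noncomputable def valLim (V : F.obj ⟨op j⟩) :=
  Functor.isPointwiseRightKanExtensionRanCounit (ι F i).op Q (op ((ι F j).obj V))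

/-- The cone of a family of maps. -/
noncomputable def liftCone (V : F.obj ⟨op j⟩) :
    Cone (StructuredArrow.proj (op ((ι F j).obj V)) (ι F i).op ⋙ Q) where
  pt := T.obj (op V)
  π :=
    { app := fun k => TypeCat.ofHom fun y => Q.map k.hom.unop.fiber.op ((t k.hom.unop.base).app (op V) y)
      naturality := fun k k' φ => by
        ext y
        have hw : (ι F i).map φ.right.unop ≫ k.hom.unop = k'.hom.unop :=
          congrArg Quiver.Hom.unop (StructuredArrow.w φ)
        show Q.map k'.hom.unop.fiber.op _ = Q.map φ.right _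
        have key : ∀ (m : (ι F i).obj k'.right.unop ⟶ (ι F j).obj V),
            mkHom (X := ⟨i, k'.right.unop⟩) (Y := ⟨j, V⟩) k.hom.unop.base (φ.right.unop ≫ k.hom.unop.fiber) = m →
            Q.map m.fiber.op ((t m.base).app (op V) y) =
              Q.map φ.right (Q.map k.hom.unop.fiber.op ((t k.hom.unop.base).app (op V) y)) := by
          rintro m rfl
          exact Functor.map_comp_apply Q k.hom.unop.fiber.op φ.right _
        exact key _ ((ι_mkHom _ _ _).symm.trans hw) }

lemma liftApp_spec {V : F.obj ⟨op j⟩} {W : F.obj ⟨op i⟩} (f : i ⟶ j) (a : W ⟶ (FibSite.invImage F f).obj V)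
    (y : T.obj (op V)) :
    ((ι F i).op.ranCounit.app Q).app (op W) (((ι F i).op.ran.obj Q).map
        (mkHom (X := ⟨i, W⟩) (Y := ⟨j, V⟩) f a).op ((valLim Q V).lift (liftCone Q t V) y)) =
      Q.map a.op ((t f).app (op V) y) :=
  congrArg (fun q => q y) ((valLim Q V).fac (liftCone Q t V)
    (StructuredArrow.mk (Y := op W) (mkHom (X := ⟨i, W⟩) (Y := ⟨j, V⟩) f a).op))

lemma ran_ext {V : F.obj ⟨op j⟩} {p q : ((ι F i).op.ran.obj Q).obj (op ((ι F j).obj V))}
    (h : ∀ (W : F.obj ⟨op i⟩) (f : i ⟶ j) (a : W ⟶ (FibSite.invImage F f).obj V),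
      ((ι F i).op.ranCounit.app Q).app (op W) (((ι F i).op.ran.obj Q).map
        (mkHom (X := ⟨i, W⟩) (Y := ⟨j, V⟩) f a).op p) =
      ((ι F i).op.ranCounit.app Q).app (op W) (((ι F i).op.ran.obj Q).map
        (mkHom (X := ⟨i, W⟩) (Y := ⟨j, V⟩) f a).op q)) : p = q := by
  have e : TypeCat.ofHom (fun _ : PUnit.{u + 1} => p) = TypeCat.ofHom (fun _ : PUnit.{u + 1} => q) :=
    (valLim Q V).hom_ext fun k => by
      ext
      exact h k.right.unop k.hom.unop.base k.hom.unop.fiber
  exact congrArg (fun r => r PUnit.unit) e

/-- The map into the restricted right Kan extension. -/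
noncomputable def liftHom : T ⟶ (res F j).obj ((ι F i).op.ran.obj Q) where
  app V := (valLim Q V.unop).lift (liftCone Q t V.unop)
  naturality V V' g := by
    ext y
    apply ran_ext
    intro W f a
    refine (liftApp_spec Q t f a _).trans ?_
    show Q.map a.op ((t f).app V' (T.map g y)) = _
    rw [NatTrans.naturality_apply]
    show Q.map a.op (Q.map ((FibSite.invImage F f).map g.unop).op _) = _
    rw [← Functor.map_comp_apply, ← op_comp]
    refine (liftApp_spec Q t f (a ≫ (FibSite.invImage F f).map g.unop) y).symm.trans ?_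
    rw [← mkHom_ι, op_comp, Functor.map_comp_apply]
    rfl

end Ran

/-- The restricted right Kan extension is the product over the base morphisms. -/
noncomputable def projIsLimit (Q : Psh F i) :
    IsLimit (Fan.mk ((res F j).obj ((ι F i).op.ran.obj Q)) fun f : i ⟶ j => proj Q f) :=
  mkFanLimit _ (fun s => liftHom Q s.proj)
    (fun s f => by
      ext V y
      show ((ι F i).op.ranCounit.app Q).app _ (((ι F i).op.ran.obj Q).map (cartesianLift V.unop f).op _) = _
      refine (liftApp_spec Q s.proj f (𝟙 _) y).trans ?_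
      rw [op_id, Functor.map_id_apply]
      rfl)
    fun s m hm => by
      ext V y
      apply ran_ext
      intro W f a
      refine Eq.trans ?_ (liftApp_spec Q s.proj f a y).symm
      rw [← hm f, mkHom_eq_lift, op_comp, Functor.map_comp_apply]
      exact NatTrans.naturality_apply ((ι F i).op.ranCounit.app Q) a.op _

variable (i) in
lemma ι_full (h : ∀ g : i ⟶ i, g = 𝟙 i) : (ι F i).Full :=
  ⟨fun {_ _} k => exists_vertical k (h k.base)⟩

lemma ι_faithful : (ι F i).Faithful := ⟨fun {_ _ _ _} h => ι_injective h⟩

end Groth.Agent.FibSiteLib
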